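import Groth.Agent.Lib.Specialize.Basic
import Groth.Agent.Lib.LocConst.Serre
import Groth.Agent.Lib.LocConst.Generic
import Groth.Agent.Lib.EtShriek.Colim

/-!
# The locus where a family of sections identifies the stalks
-/

set_option autoImplicit false
set_option backward.isDefEq.respectTransparency.types false
universe u

open CategoryTheory CategoryTheory.Limits AlgebraicGeometry Opposite
open GrothLib.EtSite GrothLib.EtSec GrothLib.LocConst

noncomputable section

namespace GrothLib.Specialize

variable {X : Scheme.{u}} {F : EtCoh.Ab X}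

/-- The point under a point of a neighbourhood. -/
abbrev pointOf {Ω : Type u} [Field Ω] [IsSepClosed Ω] {ξ : Spec (CommRingCat.of Ω) ⟶ X} {V : X.Etale}
    (t : (Scheme.pointSmallEtale ξ).fiber.obj V) : V.left :=
  t.left.base (default : Spec (CommRingCat.of Ω))

/-- `a` identifies the stalks at all geometric points over `v`. -/
def Good (V : X.Etale) {M : Type} [AddCommGroup M] (a : M →+ EtCoh.sect F V) (v : V.left) : Prop :=
  ∀ (Ω : Type u) [Field Ω] [IsSepClosed Ω] (ξ : Spec (CommRingCat.of Ω) ⟶ X)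
    (t : (Scheme.pointSmallEtale ξ).fiber.obj V), pointOf t = v →
      Function.Bijective fun m => germ ξ F t (a m)

variable {Ω Ω' : Type u} [Field Ω] [IsSepClosed Ω] [Field Ω'] [IsSepClosed Ω']
  {ξ : Spec (CommRingCat.of Ω) ⟶ X} {ξ' : Spec (CommRingCat.of Ω') ⟶ X}
  {V : X.Etale}

/-- A section vanishing at a geometric point vanishes at the geometric points over generizations. -/
theorem germ_eq_zero_of_specializes (t : (Scheme.pointSmallEtale ξ).fiber.obj V)
    (t' : (Scheme.pointSmallEtale ξ').fiber.obj V) (hs : pointOf t' ⤳ pointOf t)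
    (s : EtCoh.sect F V) (h : germ ξ F t s = 0) : germ ξ' F t' s = 0 := by
  obtain ⟨W, g, w, hw, hg⟩ := eq_zero_nhd ξ F t s h
  obtain ⟨w', hw'⟩ : pointOf t' ∈ Set.range g.left.base :=
    hs.mem_open (GrothLib.EtBasicB.isOpen_range_left g) ⟨w, hw⟩
  obtain ⟨t'', ht'', -⟩ := GrothLib.EtBasicB.exists_fib_lift ξ' g t' w' hw'
  rw [← ht'', ← germ_map, hg, map_zero]

/-- Being good only depends on the point. -/
theorem good_of_bijective {M : Type} [AddCommGroup M] (a : M →+ EtCoh.sect F V)
    (t : (Scheme.pointSmallEtale ξ).fiber.obj V)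
    (h : Function.Bijective fun m => germ ξ F t (a m)) : Good V a (pointOf t) := by
  intro Ω' _ _ ξ' t' ht'
  refine ⟨fun m m' hmm => h.1 ?_, fun p => ?_⟩
  · have h0 : germ ξ' F t' (a (m - m')) = 0 := by
      rw [map_sub, map_sub, sub_eq_zero]
      exact hmm
    have h1 := germ_eq_zero_of_specializes t' t (by rw [ht']) _ h0
    rw [map_sub, map_sub, sub_eq_zero] at h1
    exact h1
  · obtain ⟨W, w, z, rfl⟩ := exists_germ ξ' F p
    obtain ⟨W', w', g, k, hg, hk⟩ := exists_refine₂ ξ' t' w
    obtain ⟨s, hs, hsp⟩ := GrothLib.EtBasicB.exists_fib_lift ξ g t (pointOf w')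
      ((base_fiber_map ξ' g w' t' hg).trans ht')
    obtain ⟨m, hm⟩ := h.2 (germ ξ F s (F.obj.map k.op z))
    refine ⟨m, ?_⟩
    have h0 : germ ξ F s (F.obj.map g.op (a m) - F.obj.map k.op z) = 0 := by
      rw [map_sub, germ_map ξ F g s, hs, sub_eq_zero]
      exact hm
    have h1 := germ_eq_zero_of_specializes s w' (specializes_of_eq hsp.symm) _ h0
    rw [map_sub, germ_map, germ_map, hg, hk, sub_eq_zero] at h1
    exact h1

/-- Goodness is compatible with specialization arrows inducing isomorphisms. -/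
theorem bijective_spec_iff (φ : Scheme.pointSmallEtale ξ' ⟶ Scheme.pointSmallEtale ξ)
    [IsIso ((GrothendieckTopology.Point.Hom.sheafFiber (A := AddCommGrpCat.{u + 1}) φ).app F)]
    {M : Type} [AddCommGroup M] (a : M →+ EtCoh.sect F V)
    (t : (Scheme.pointSmallEtale ξ).fiber.obj V) :
    (Function.Bijective fun m => germ ξ F t (a m)) ↔
      Function.Bijective fun m => germ ξ' F (φ.hom.app V t) (a m) := by
  have e : (fun m => germ ξ' F (φ.hom.app V t) (a m)) =
      ((GrothendieckTopology.Point.Hom.sheafFiber (A := AddCommGrpCat.{u + 1}) φ).app F) ∘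
        fun m => germ ξ F t (a m) := funext fun m => (sheafFiber_germ φ F t (a m)).symm
  rw [e]
  exact (Function.Bijective.of_comp_iff' ((ConcreteCategory.isIso_iff_bijective _).1 inferInstance) _).symm

/-- Every generization of a point of a neighbourhood is reached by a specialization arrow. -/
theorem exists_spec_over (t : (Scheme.pointSmallEtale ξ).fiber.obj V) (y : V.left)
    (hy : y ⤳ pointOf t) :
    ∃ (Ω' : Type u) (_ : Field Ω') (_ : IsSepClosed Ω') (ξ' : Spec (CommRingCat.of Ω') ⟶ X)
      (φ : Scheme.pointSmallEtale ξ' ⟶ Scheme.pointSmallEtale ξ), pointOf (φ.hom.app V t) = y := by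
  obtain ⟨N, hN⟩ := exists_proNbhd_generization (X := V.left) t.left
  obtain ⟨q, hq⟩ := hN y hy
  refine ⟨_, _, inferInstance, _, spec N V.hom (Over.w t) (gpt q), ?_⟩
  have e : (specFib N V.hom (Over.w t) (gpt q) V t).left = gpt q ≫ N.bc :=
    specFib_left N V.hom (Over.w t) (gpt q) V t N.bc rfl N.hpt
  refine (congrArg (fun k : Spec (CommRingCat.of _) ⟶ V.left => k.base default) e).trans ?_
  refine Eq.trans ?_ hq
  exact congrArg N.bc.base (gpt_default q)

/-- A finite stalk is the value of a group of sections on an affine neighbourhood. -/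
theorem exists_local_iso (F : EtCoh.Ab X) (ξ : Spec (CommRingCat.of Ω) ⟶ X)
    (hfin : Finite ((EtCoh.stalk ξ).obj F)) {U : X.Etale}
    (u : (Scheme.pointSmallEtale ξ).fiber.obj U) :
    ∃ (V : X.Etale) (g : V ⟶ U) (t : (Scheme.pointSmallEtale ξ).fiber.obj V) (M : Type)
      (_ : AddCommGroup M) (_ : Finite M) (a : M →+ EtCoh.sect F V),
      IsAffine V.left ∧ (Scheme.pointSmallEtale ξ).fiber.map g t = u ∧
        Function.Bijective fun m => germ ξ F t (a m) := by
  haveI := hfin
  let M := Shrink.{0} ((EtCoh.stalk ξ).obj F)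
  let e : M ≃+ (EtCoh.stalk ξ).obj F := Shrink.addEquiv
  haveI : Finite M := Finite.of_equiv _ e.symm.toEquiv
  obtain ⟨V₁, g₁, t₁, s, hg₁, hs⟩ := exists_refine_sect ξ F u fun m : M => e m
  obtain ⟨V₂, g₂, t₂, hg₂, he⟩ := exists_refine_eq ξ F t₁ (fun p : M × M => s (p.1 + p.2))
    (fun p : M × M => s p.1 + s p.2) fun p => by rw [map_add, hs, hs, hs, map_add]
  obtain ⟨A, t₃, hA, ht₃⟩ := GrothLib.EtShriek.exists_affine_germ ξ t₂
  let k := opensHom V₂ A ≫ g₂
  refine ⟨_, k ≫ g₁, t₃, M, inferInstance, inferInstance,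
    AddMonoidHom.mk' (fun m => F.obj.map k.op (s m)) (fun m m' => ?_), hA, ?_, ?_⟩
  · simp only [k, op_comp, Functor.map_comp, ConcreteCategory.comp_apply, he (m, m'), map_add]
  · rw [Functor.map_comp, Functor.map_comp, ConcreteCategory.comp_apply,
      ConcreteCategory.comp_apply, ht₃, hg₂, hg₁]
  · have e' : (fun m => germ ξ F t₃ (F.obj.map k.op (s m))) = e := funext fun m => by
      rw [germ_map, Functor.map_comp, ConcreteCategory.comp_apply, ht₃, hg₂, hs]
    exact e' ▸ e.bijective

/-- An open good set gives a chart. -/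
theorem isChart_of_open {M : Type} [AddCommGroup M] (a : M →+ EtCoh.sect F V) (O : V.left.Opens)
    (hO : ∀ v ∈ O, Good V a v) :
    IsChart F (opensObj V O) ((F.obj.map (opensHom V O).op).hom.comp a) := by
  intro Ω _ _ η t
  have e : (fun m => germ η F t ((F.obj.map (opensHom V O).op).hom.comp a m)) =
      fun m => germ η F ((Scheme.pointSmallEtale η).fiber.map (opensHom V O) t) (a m) :=
    funext fun m => germ_map η F _ t (a m)
  rw [e]
  refine hO _ ?_ Ω η _ rfl
  rw [show pointOf ((Scheme.pointSmallEtale η).fiber.map (opensHom V O) t) = O.ι.base (pointOf t) from rfl]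
  exact (pointOf t).2

end GrothLib.Specialize
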