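import Groth.Agent.Lib.Specialize.Good
import Groth.Agent.Lib.ConstrCpt.Presentation

/-!
# The locus where sections fail to identify the stalks of a constructible sheaf is constructible
-/

set_option autoImplicit false
set_option backward.isDefEq.respectTransparency.types false
universe u

open CategoryTheory CategoryTheory.Limits AlgebraicGeometry Opposite Topology
open GrothLib.EtSite GrothLib.EtSec GrothLib.LocConst

noncomputable section

namespace GrothLib.Specialize

theorem isConstructible_of_flc {S : Scheme.{u}} {G : EtCoh.Ab S}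
    (h : EtCoh.IsFiniteLocallyConstant G) : EtPBC.IsConstructible G := fun U _ =>
  GrothLib.Constructible.adapted_of_pieces G U (fun _ : PUnit.{1} => S) (fun _ => 𝟙 S)
    (fun _ => Set.univ) (fun _ x _ => ⟨x, rfl⟩) (fun _ => by simp)
    (fun x _ => Set.mem_iUnion.2 ⟨PUnit.unit, Set.mem_univ x⟩)
    (fun _ => GrothLib.LocConst.isFiniteLocallyConstant_pull (𝟙 S) _ h)

theorem isZero_stalk_kernel_iff {X : Scheme.{u}} {A B : EtCoh.Ab X} (φ : A ⟶ B) {Ω : Type u}
    [Field Ω] [IsSepClosed Ω] (ξ : Spec (CommRingCat.of Ω) ⟶ X) :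
    IsZero ((EtCoh.stalk ξ).obj (kernel φ)) ↔ Function.Injective ((EtCoh.stalk ξ).map φ) := by
  haveI : Mono ((EtCoh.stalk ξ).map (kernel.ι φ)) := inferInstance
  constructor
  · intro h
    refine (injective_iff_map_eq_zero ((EtCoh.stalk ξ).map φ).hom).2 fun z hz => ?_
    obtain ⟨k, rfl⟩ :=
      (ShortComplex.ab_exact_iff _).1 ((ShortComplex.exact_kernel φ).map (EtCoh.stalk ξ)) z hz
    rw [(AddCommGrpCat.subsingleton_of_isZero h).elim k 0]
    exact map_zero _
  · intro h
    refine IsZero.of_mono_eq_zero ((EtCoh.stalk ξ).map (kernel.ι φ)) ?_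
    refine AddCommGrpCat.ext fun k => h ?_
    rw [← ConcreteCategory.comp_apply, ← Functor.map_comp, kernel.condition, Functor.map_zero]
    exact (map_zero ((EtCoh.stalk ξ).map φ).hom).symm

variable {X : Scheme.{u}}

/-- The map from the constant sheaf defined by a family of sections. -/
def sectHom (F : EtCoh.Ab X) (V : X.Etale) [Etale V.hom] [EtShriek.JCont V.hom] {M : Type} [AddCommGroup M]
    (a : M →+ EtCoh.sect F V) :
    (constantSheaf V.left.smallEtaleTopology AddCommGrpCat.{u + 1}).obj
        (AddCommGrpCat.of (ULift.{u + 1} M)) ⟶ (EtShriek.restrAlong V.hom).obj F :=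
  ((EtCore.constAdj V.left).homEquiv _ _).symm
    (AddCommGrpCat.ofHom ((F.obj.map (MorphismProperty.Over.isoMk (Iso.refl _)
      ((Category.id_comp _).trans (Category.id_comp _).symm) :
        (EtShriek.compEtale V.hom).obj (EtCoh.top V.left) ≅ V).hom.op).hom.comp
      (a.comp AddEquiv.ulift.toAddMonoidHom)))

theorem bijective_sectHom_iff (F : EtCoh.Ab X) (V : X.Etale) [Etale V.hom] [EtShriek.JCont V.hom]
    {M : Type} [AddCommGroup M] (a : M →+ EtCoh.sect F V) {Ω : Type u} [Field Ω] [IsSepClosed Ω]
    (η : Spec (CommRingCat.of Ω) ⟶ V.left) :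
    Function.Bijective ((EtCoh.stalk η).map (sectHom F V a)) ↔
      Function.Bijective fun m => germ (η ≫ V.hom) F (fib (η ≫ V.hom) (U := V) η rfl) (a m) := by
  let e : (EtShriek.compEtale V.hom).obj (EtCoh.top V.left) ≅ V :=
    MorphismProperty.Over.isoMk (Iso.refl _) ((Category.id_comp _).trans (Category.id_comp _).symm)
  let G : EtCoh.Ab V.left := (EtShriek.restrAlong V.hom).obj F
  let A := AddCommGrpCat.of (ULift.{u + 1} M)
  let b : A ⟶ G.obj.obj (op (EtCoh.top V.left)) :=
    AddCommGrpCat.ofHom ((F.obj.map e.hom.op).hom.comp (a.comp AddEquiv.ulift.toAddMonoidHom))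
  let t : (Scheme.pointSmallEtale (η ≫ V.hom)).fiber.obj V := fib (η ≫ V.hom) (U := V) η rfl
  have h1 : b ≫ germ η G (topFib η) = ((EtCore.constAdj V.left).unit.app A ≫
      germ η ((constantSheaf V.left.smallEtaleTopology AddCommGrpCat.{u + 1}).obj A) (topFib η)) ≫
        (EtCoh.stalk η).map (sectHom F V a) := by
    refine Eq.trans ?_ (germ_transpose η (sectHom F V a))
    exact congrArg (· ≫ germ η G (topFib η)) (Equiv.apply_symm_apply _ b).symm
  have h2 : Function.Bijective ((EtCoh.stalk η).map (sectHom F V a)) ↔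
      Function.Bijective (b ≫ germ η G (topFib η)) :=
    ⟨fun h => h1.symm ▸ bijective_comp (bijective_germ_const η A) h,
      fun h => bijective_of_comp (bijective_germ_const η A) (h1 ▸ h)⟩
  refine h2.trans ((Function.Bijective.of_comp_iff' (bijective_restrGerm V.hom η F) _).symm.trans ?_)
  have hf : (fun m => restrGerm V.hom η F ((b ≫ germ η G (topFib η)) m)) =
      (fun m => germ (η ≫ V.hom) F t (a m)) ∘ (AddEquiv.ulift : ULift.{u + 1} M ≃+ M) := funext fun m => by
    refine (germ_restrGerm V.hom η F _ _).trans ((germ_map _ F e.hom _ _).trans ?_)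
    congr 1
  exact (iff_of_eq (congrArg Function.Bijective hf)).trans
    (Function.Bijective.of_comp_iff _ (AddEquiv.ulift : ULift.{u + 1} M ≃+ M).bijective)

/-- The bad locus of a family of sections of a constructible sheaf on a quasi-compact quasi-separated
neighbourhood is constructible. -/
theorem isConstructible_bad (F : EtCoh.Ab X) (hF : EtPBC.IsConstructible F) (V : X.Etale)
    [CompactSpace V.left] [QuasiSeparatedSpace V.left] {M : Type} [AddCommGroup M] [Finite M]
    (a : M →+ EtCoh.sect F V) : Topology.IsConstructible {v : V.left | ¬ Good V a v} := by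
  haveI : Etale V.hom := V.prop
  haveI : EtShriek.JCont V.hom := jCont_hom V
  let G : EtCoh.Ab V.left := (EtShriek.restrAlong V.hom).obj F
  have hG : EtPBC.IsConstructible G :=
    GrothLib.Constructible.isConstructible_openPart_separated.isConstructible_of_iso
      ((GrothLib.ExtZero.restrIsoPull V.hom).app F).symm
      (GrothLib.Constructible.isConstructible_pull V.hom F hF)
  let φ := sectHom F V a
  have hC := GrothLib.Constructible.isConstructible_kernel_cokernel φ
    (isConstructible_of_flc (GrothLib.Constructible.isFiniteLocallyConstant_const V.left M)) hG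
  have hS : {v : V.left | ¬ Good V a v} = EtPBC.supp (kernel φ) ∪ EtPBC.supp (cokernel φ) := by
    ext v
    have h : Good V a v ↔ IsZero ((EtCoh.stalk (gpt v)).obj (kernel φ)) ∧
        IsZero ((EtCoh.stalk (gpt v)).obj (cokernel φ)) := by
      rw [isZero_stalk_kernel_iff, GrothLib.ConstrCpt.isZero_stalk_cokernel_iff]
      refine Iff.trans ⟨fun h => h _ _ _ (gpt_default v), fun h => ?_⟩ (bijective_sectHom_iff F V a (gpt v)).symm
      exact (gpt_default v) ▸ good_of_bijective a _ h
    constructor
    · intro hv
      by_contra hcon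
      rw [Set.mem_union, not_or] at hcon
      exact hv (h.2 ⟨GrothLib.ConstrCpt.isZero_stalk_of_notMem_supp _ ((gpt_default v).symm ▸ hcon.1),
        GrothLib.ConstrCpt.isZero_stalk_of_notMem_supp _ ((gpt_default v).symm ▸ hcon.2)⟩)
    · intro hv hgood
      rcases hv with hv | hv
      · exact (gpt_default v ▸ GrothLib.ConstrCpt.notMem_supp _ hC.1 (gpt v) (h.1 hgood).1) hv
      · exact (gpt_default v ▸ GrothLib.ConstrCpt.notMem_supp _ hC.2 (gpt v) (h.1 hgood).2) hv
  rw [hS]
  exact (GrothLib.Constructible.isLocallyConstructible_supp _ hC.1).isConstructible.union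
    (GrothLib.Constructible.isLocallyConstructible_supp _ hC.2).isConstructible

end GrothLib.Specialize
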