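import Groth.Agent.Lib.Specialize.Bad
import Groth.Agent.Lib.ConstrCpt.Closure

/-!
# Finite local constancy through specialization maps
-/

set_option autoImplicit false
set_option backward.isDefEq.respectTransparency.types false
universe u

open CategoryTheory CategoryTheory.Limits AlgebraicGeometry Opposite Topology
open GrothLib.EtSite GrothLib.EtSec GrothLib.LocConst

noncomputable section

namespace GrothLib.Specialize

variable {X : Scheme.{u}} {F : EtCoh.Ab X} {Ω Ω' : Type u} [Field Ω] [IsSepClosed Ω] [Field Ω']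
  [IsSepClosed Ω'] {ξ : Spec (CommRingCat.of Ω) ⟶ X} {ξ' : Spec (CommRingCat.of Ω') ⟶ X}

/-- Specialization arrows inside a chart induce isomorphisms. -/
theorem isIso_of_chart {V : X.Etale} {M : Type} [AddCommGroup M] {a : M →+ EtCoh.sect F V}
    (ha : IsChart F V a) (t : (Scheme.pointSmallEtale ξ).fiber.obj V)
    (φ : Scheme.pointSmallEtale ξ' ⟶ Scheme.pointSmallEtale ξ) :
    IsIso ((GrothendieckTopology.Point.Hom.sheafFiber (A := AddCommGrpCat.{u + 1}) φ).app F) := by
  rw [ConcreteCategory.isIso_iff_bijective]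
  refine (Function.Bijective.of_comp_iff _ (ha Ω ξ t)).1 ?_
  exact (funext fun m => sheafFiber_germ φ F t (a m) :
    (_ ∘ fun m => germ ξ F t (a m)) = fun m => germ ξ' F (φ.hom.app V t) (a m)) ▸ ha Ω' ξ' _

/-- A chart at a geometric point of an open on which the sheaf is finite locally constant. -/
theorem exists_chart_of_flc_pull {S : Scheme.{u}} (j : S ⟶ X) [Etale j]
    (h : EtCoh.IsFiniteLocallyConstant ((EtCoh.pull j).obj F)) (ξ : Spec (CommRingCat.of Ω) ⟶ X)
    (s : S) (hs : j.base s = ξ.base default) :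
    ∃ (V : X.Etale) (_ : (Scheme.pointSmallEtale ξ).fiber.obj V) (M : Type) (_ : AddCommGroup M)
      (_ : Finite M) (a : M →+ EtCoh.sect F V), IsChart F V a := by
  obtain ⟨ι, W, hW, h⟩ := h
  obtain ⟨i, w, hw⟩ := hW s
  obtain ⟨M, _, hfin, hM⟩ := h i
  obtain ⟨eM⟩ := (restr_iso_const_iff _ (W i) _).1 hM
  haveI : Etale (W i).hom := (W i).prop
  let V : X.Etale := Scheme.Etale.mk ((W i).hom ≫ j)
  obtain ⟨a, ha⟩ := (restr_iso_const_iff_chart F V (AddCommGrpCat.of (ULift.{u + 1} M))).1
    ((restr_iso_const_iff F V _).2 ⟨(EtCore.pullComp (W i).hom j).app F ≪≫ eM⟩)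
  obtain ⟨t, -⟩ := exists_fib ξ (U := V) w ((congrArg j.base hw).trans hs)
  exact ⟨V, t, M, inferInstance, hfin, _, ha.comp_equiv AddEquiv.ulift.symm⟩

/-- An open set of good points gives finite local constancy nearby. -/
theorem flc_near {V : X.Etale} {M : Type} [AddCommGroup M] [Finite M] (a : M →+ EtCoh.sect F V)
    (O : V.left.Opens) (hO : ∀ v ∈ O, Good V a v) (v : V.left) (hv : v ∈ O) :
    ∃ U : X.Opens, V.hom.base v ∈ U ∧ EtCoh.IsFiniteLocallyConstant ((EtCoh.pull U.ι).obj F) := by
  haveI : Etale (opensObj V O).hom := (opensObj V O).prop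
  let U : X.Opens := ⟨Set.range (opensObj V O).hom.base, (opensObj V O).hom.isOpenMap.isOpen_range⟩
  exact ⟨U, ⟨(⟨v, hv⟩ : O), rfl⟩, flc_pull_image (opensObj V O) U rfl _ (isChart_of_open a O hO)⟩

/-- Near a point where all specialization maps from generizations are isomorphisms, a constructible
sheaf is finite locally constant. -/
theorem flc_near_iff (F : EtCoh.Ab X) (hF : EtPBC.IsConstructible F) (x : X)
    (ξ : Spec (CommRingCat.of Ω) ⟶ X) (hξ : Set.range ξ.base = {x}) :
    (∃ U : X.Opens, x ∈ U ∧ EtCoh.IsFiniteLocallyConstant ((EtCoh.pull U.ι).obj F)) ↔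
      ∀ (Ω' : Type u) [Field Ω'] [IsSepClosed Ω'] (ξ' : Spec (CommRingCat.of Ω') ⟶ X)
        (φ : Scheme.pointSmallEtale ξ' ⟶ Scheme.pointSmallEtale ξ),
        IsIso ((GrothendieckTopology.Point.Hom.sheafFiber (A := AddCommGrpCat.{u + 1}) φ).app F) := by
  have hx : ξ.base default = x := (hξ.le ⟨default, rfl⟩ : _)
  constructor
  · rintro ⟨U, hxU, hU⟩ Ω' _ _ ξ' φ
    obtain ⟨V, t, M, _, _, a, ha⟩ := exists_chart_of_flc_pull U.ι hU ξ ⟨x, hxU⟩ hx.symm
    exact isIso_of_chart ha t φ
  · intro h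
    obtain ⟨V, g, t, M, _, _, a, hV, -, hbij⟩ :=
      exists_local_iso F ξ (GrothLib.Constructible.finite_stalk F hF ξ) (topFib ξ)
    haveI := hV
    have hbad := isConstructible_bad F hF V a
    have hclosure : pointOf t ∉ closure {v : V.left | ¬ Good V a v} := by
      intro hmem
      obtain ⟨y, hy, hyt⟩ := GrothLib.ConstrCpt.exists_specializes hbad hmem
      obtain ⟨Ω', _, _, ξ', φ, hφ⟩ := exists_spec_over t y hyt
      haveI := h Ω' ξ' φ
      exact hy (hφ ▸ good_of_bijective a _ ((bijective_spec_iff φ a t).1 hbij))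
    obtain ⟨U, hU, hflc⟩ := flc_near a ⟨(closure {v : V.left | ¬ Good V a v})ᶜ, isClosed_closure.isOpen_compl⟩
      (fun v hv => not_not.1 fun hv' => hv (subset_closure hv')) (pointOf t) hclosure
    refine ⟨U, ?_, hflc⟩
    have e : V.hom.base (pointOf t) = x :=
      (congrArg (fun k : Spec (CommRingCat.of Ω) ⟶ X => k.base default) (Over.w t)).trans hx
    exact e ▸ hU

/-- On a locally Noetherian scheme, finite local constancy is bijectivity of specialization maps. -/
theorem flc_iff_spec_iso [IsLocallyNoetherian X] (F : EtCoh.Ab X)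
    (hfin : ∀ (Ω : Type u) [Field Ω] [IsSepClosed Ω] (ξ : Spec (CommRingCat.of Ω) ⟶ X),
      Finite ((EtCoh.stalk ξ).obj F)) :
    EtCoh.IsFiniteLocallyConstant F ↔
      ∀ (Ω Ω' : Type u) [Field Ω] [IsSepClosed Ω] [Field Ω'] [IsSepClosed Ω']
        (ξ : Spec (CommRingCat.of Ω) ⟶ X) (ξ' : Spec (CommRingCat.of Ω') ⟶ X)
        (φ : Scheme.pointSmallEtale ξ' ⟶ Scheme.pointSmallEtale ξ),
        IsIso ((GrothendieckTopology.Point.Hom.sheafFiber (A := AddCommGrpCat.{u + 1}) φ).app F) := by
  constructor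
  · intro hF Ω Ω' _ _ _ _ ξ ξ' φ
    obtain ⟨V, t, M, _, _, a, ha⟩ := exists_chart ξ hF
    exact isIso_of_chart ha t φ
  · intro h
    refine (flc_iff_charts F).2 fun x => ?_
    obtain ⟨V, g, t, M, _, hM, a, hV, -, hbij⟩ :=
      exists_local_iso F (gpt x) (hfin _ (gpt x)) (topFib (gpt x))
    haveI := hV
    haveI : Etale V.hom := V.prop
    let vh : V.left ⟶ X := V.hom
    haveI : Etale vh := V.prop
    haveI : IsLocallyNoetherian V.left := LocallyOfFiniteType.isLocallyNoetherian vh
    haveI : IsNoetherian V.left := {}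
    have hstab : ∀ y z : V.left, y ⤳ z → (Good V a y ↔ Good V a z) := by
      intro y z hyz
      obtain ⟨tz, htz⟩ := exists_fib (gpt (V.hom.base z)) (U := V) z (gpt_default _).symm
      obtain ⟨Ω', _, _, ξ', φ, hφ⟩ := exists_spec_over tz y (by rw [show pointOf tz = z from htz]; exact hyz)
      haveI := h _ Ω' _ ξ' φ
      exact ⟨fun hy => htz ▸ good_of_bijective a tz ((bijective_spec_iff φ a tz).2 (hy Ω' ξ' _ hφ)),
        fun hz => hφ ▸ good_of_bijective a _ ((bijective_spec_iff φ a tz).1 (hz _ _ tz htz))⟩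
    let S := {C ∈ irreducibleComponents ↥V.left | ¬ ∀ v ∈ C, Good V a v}
    have hclosed : IsClosed (⋃₀ S) := by
      rw [Set.sUnion_eq_biUnion]
      exact (TopologicalSpace.NoetherianSpace.finite_irreducibleComponents.subset fun C hC => hC.1).isClosed_biUnion
        fun C hC => isClosed_of_mem_irreducibleComponents C hC.1
    have hiff : ∀ v, v ∈ ⋃₀ S ↔ ¬ Good V a v := by
      intro v
      constructor
      · rintro ⟨C, ⟨hC, hbad⟩, hv⟩ hgood
        have hg := (hC.1).isGenericPoint_genericPoint (isClosed_of_mem_irreducibleComponents C hC)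
        exact hbad fun w hw =>
          (hstab _ w (hg.specializes hw)).1 ((hstab _ v (hg.specializes hv)).2 hgood)
      · intro hv
        exact ⟨irreducibleComponent v, ⟨irreducibleComponent_mem_irreducibleComponents v,
          fun h => hv (h v mem_irreducibleComponent)⟩, mem_irreducibleComponent⟩
    let O : V.left.Opens := ⟨(⋃₀ S)ᶜ, hclosed.isOpen_compl⟩
    have ht : pointOf t ∈ O := fun hh => (hiff _).1 hh (good_of_bijective a t hbij)
    refine ⟨opensObj V O, (⟨pointOf t, ht⟩ : O), ?_, M, inferInstance, hM, _,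
      isChart_of_open a O fun v hv => not_not.1 fun hv' => hv ((hiff v).2 hv')⟩
    exact (congrArg (fun k : Spec (CommRingCat.of _) ⟶ X => k.base default) (Over.w t)).trans (gpt_default x)

end GrothLib.Specialize
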