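import Groth.Agent.Lib.EtSec.ProNbhd
import Groth.Agent.Lib.EtSite.Points
import Mathlib.AlgebraicGeometry.Morphisms.UniversallyOpen
import Mathlib.AlgebraicGeometry.Morphisms.WeaklyEtale
import Mathlib.CategoryTheory.Sites.Point.Category

/-!
# Specialization arrows between geometric points

A pro-neighbourhood of a geometric point `ζ` of `U` gives, for every morphism `j : U ⟶ X` and every
geometric point of the pro-neighbourhood, a morphism of points of the etale site of `X`; every
generization of a point underlies such an arrow.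
-/

set_option autoImplicit false
set_option backward.isDefEq.respectTransparency.types false
universe u

open CategoryTheory CategoryTheory.Limits AlgebraicGeometry Opposite
open GrothLib.EtSite GrothLib.EtSec

noncomputable section

namespace GrothLib.Specialize

variable {X U : Scheme.{u}} {Ω Ω' : Type u} [Field Ω] [IsSepClosed Ω] [Field Ω'] [IsSepClosed Ω']
  {ζ : Spec (CommRingCat.of Ω) ⟶ U}

theorem exists_lift (N : ProNbhd ζ) (j : U ⟶ X) {ξ : Spec (CommRingCat.of Ω) ⟶ X} (hξ : ζ ≫ j = ξ)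
    (W : X.Etale) (t : (Scheme.pointSmallEtale ξ).fiber.obj W) :
    ∃ m : N.c.pt ⟶ W.left, m ≫ W.hom = N.bc ≫ j ∧ N.pt ≫ m = t.left := by
  haveI : Etale W.hom := W.prop
  have ht : t.left ≫ W.hom = ζ ≫ j := (Over.w t).trans hξ.symm
  obtain ⟨i, m, hm, hp⟩ := N.initial (pullback W.hom j) (pullback.snd _ _) inferInstance
    (pullback.lift t.left ζ ht) (pullback.lift_snd _ _ _)
  refine ⟨N.c.π.app i ≫ m ≫ pullback.fst W.hom j, ?_, ?_⟩
  · rw [Category.assoc, Category.assoc, pullback.condition, ← Category.assoc m, hm, ← Category.assoc,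
      N.hbc]
  · exact ((congrArg (N.pt ≫ ·) (Category.assoc _ _ _).symm).trans (Category.assoc _ _ _).symm).trans
      ((congrArg (· ≫ pullback.fst W.hom j) hp).trans (pullback.lift_fst _ _ _))

theorem lift_unique (N : ProNbhd ζ) (j : U ⟶ X) {W : Scheme.{u}} (w : W ⟶ X) [Etale w]
    (m m' : N.c.pt ⟶ W) (hm : m ≫ w = N.bc ≫ j) (hm' : m' ≫ w = N.bc ≫ j)
    (hp : N.pt ≫ m = N.pt ≫ m') : m = m' := by
  have h := N.ext (pullback.snd w j) (pullback.lift m N.bc hm) (pullback.lift m' N.bc hm')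
    ((pullback.lift_snd _ _ _).trans (pullback.lift_snd _ _ _).symm) (pullback.hom_ext
      (by rw [Category.assoc, Category.assoc, pullback.lift_fst, pullback.lift_fst, hp])
      (by rw [Category.assoc, Category.assoc, pullback.lift_snd, pullback.lift_snd]))
  simpa only [pullback.lift_fst] using congrArg (· ≫ pullback.fst w j) h

/-- The value of a specialization arrow at a neighbourhood. -/
def specFib (N : ProNbhd ζ) (j : U ⟶ X) {ξ : Spec (CommRingCat.of Ω) ⟶ X} (hξ : ζ ≫ j = ξ)
    (ρ : Spec (CommRingCat.of Ω') ⟶ N.c.pt) (W : X.Etale)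
    (t : (Scheme.pointSmallEtale ξ).fiber.obj W) :
    (Scheme.pointSmallEtale (ρ ≫ N.bc ≫ j)).fiber.obj W :=
  fib _ (U := W) (ρ ≫ (exists_lift N j hξ W t).choose)
    ((Category.assoc _ _ _).trans (congrArg (ρ ≫ ·) (exists_lift N j hξ W t).choose_spec.1))

theorem specFib_left (N : ProNbhd ζ) (j : U ⟶ X) {ξ : Spec (CommRingCat.of Ω) ⟶ X} (hξ : ζ ≫ j = ξ)
    (ρ : Spec (CommRingCat.of Ω') ⟶ N.c.pt) (W : X.Etale)
    (t : (Scheme.pointSmallEtale ξ).fiber.obj W) (m : N.c.pt ⟶ W.left)
    (hm : m ≫ W.hom = N.bc ≫ j) (hp : N.pt ≫ m = t.left) :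
    (specFib N j hξ ρ W t).left = ρ ≫ m := by
  haveI : Etale W.hom := W.prop
  have h := lift_unique N j W.hom _ m (exists_lift N j hξ W t).choose_spec.1 hm
    ((exists_lift N j hξ W t).choose_spec.2.trans hp.symm)
  exact congrArg (ρ ≫ ·) h

/-- The specialization arrow. -/
def spec (N : ProNbhd ζ) (j : U ⟶ X) {ξ : Spec (CommRingCat.of Ω) ⟶ X} (hξ : ζ ≫ j = ξ)
    (ρ : Spec (CommRingCat.of Ω') ⟶ N.c.pt) :
    Scheme.pointSmallEtale (ρ ≫ N.bc ≫ j) ⟶ Scheme.pointSmallEtale ξ :=
  ⟨{ app := fun W => ↾fun t => specFib N j hξ ρ W t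
     naturality := fun W W' g => by
      ext t
      refine Over.OverMorphism.ext ?_
      change (specFib N j hξ ρ W' ((Scheme.pointSmallEtale ξ).fiber.map g t)).left =
        (specFib N j hξ ρ W t).left ≫ g.left
      obtain ⟨m, hm, hp⟩ := exists_lift N j hξ W t
      refine (specFib_left N j hξ ρ W' _ (m ≫ g.left)
        ((Category.assoc _ _ _).trans ((congrArg (m ≫ ·) (MorphismProperty.Over.w g)).trans hm))
        ((Category.assoc _ _ _).symm.trans (congrArg (· ≫ g.left) hp))).trans ?_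
      exact (Category.assoc _ _ _).symm.trans
        (congrArg (· ≫ g.left) (specFib_left N j hξ ρ W t m hm hp).symm) }⟩

/-- Every generization underlies a point of a pro-neighbourhood. -/
theorem exists_proNbhd_generization (η : Spec (CommRingCat.of Ω) ⟶ X) :
    ∃ N : ProNbhd η, ∀ y : X, y ⤳ η.base default → ∃ q : N.c.pt, N.bc.base q = y := by
  obtain ⟨⟨x, f⟩, rfl⟩ := (Scheme.SpecToEquivOfField Ω X).symm.surjective η
  letI : Algebra (X.residueField x) Ω := f.hom.toAlgebra
  obtain ⟨N, hN, -⟩ := exists_proNbhd x Ω ((Scheme.SpecToEquivOfField Ω X).symm ⟨x, f⟩) rfl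
  refine ⟨N, fun y hy => ?_⟩
  have e := congrArg (fun k : Spec (CommRingCat.of Ω) ⟶ X => k.base default) N.hpt
  obtain ⟨q, -, hq⟩ := (Flat.generalizingMap (f := N.bc)) (a := N.pt.base default) ((congrArg (fun z => y ⤳ z) e).mpr hy)
  exact ⟨q, hq⟩

/-- A specialization arrow on germs. -/
theorem sheafFiber_germ {ξ : Spec (CommRingCat.of Ω) ⟶ X} {ξ' : Spec (CommRingCat.of Ω') ⟶ X}
    (φ : Scheme.pointSmallEtale ξ' ⟶ Scheme.pointSmallEtale ξ) (F : EtCoh.Ab X) {W : X.Etale}
    (t : (Scheme.pointSmallEtale ξ).fiber.obj W) (s : EtCoh.sect F W) :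
    (GrothendieckTopology.Point.Hom.sheafFiber (A := AddCommGrpCat.{u + 1}) φ).app F (germ ξ F t s) =
      germ ξ' F (φ.hom.app W t) s :=
  congrArg (fun k => k s) ((Scheme.pointSmallEtale ξ).toPresheafFiber_presheafFiberDesc
    (P := F.obj) (fun W x => (Scheme.pointSmallEtale ξ').toPresheafFiber W (φ.hom.app W x) F.obj)
    (fun {V W} g x => by
      rw [NatTrans.naturality_apply φ.hom g x]
      exact (Scheme.pointSmallEtale ξ').toPresheafFiber_w g (φ.hom.app V x) F.obj) W t)

end GrothLib.Specialize
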