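import Groth.Agent.Lib.Specialize.Generic
import Groth.Agent.Lib.Constructible.Supp

/-!
# Cardinality loci of constructible sheaves are locally constructible
-/

set_option autoImplicit false
set_option backward.isDefEq.respectTransparency.types false
universe u

open CategoryTheory CategoryTheory.Limits AlgebraicGeometry Opposite Topology
open GrothLib.EtSite GrothLib.LocConst
open GrothLib.Constructible (exists_point_lift range_eq_singleton)

noncomputable section

namespace GrothLib.Specialize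

variable {X : Scheme.{u}}

theorem card_of_chart {T : Scheme.{u}} (g : T ⟶ X) (F : EtCoh.Ab X) {U : T.Etale} {M : Type}
    [AddCommGroup M] (a : M →+ EtCoh.sect ((EtCoh.pull g).obj F) U) (ha : IsChart _ U a)
    {Ω : Type u} [Field Ω] [IsSepClosed Ω] (ζ : Spec (CommRingCat.of Ω) ⟶ T)
    (s : (Scheme.pointSmallEtale ζ).fiber.obj U) :
    Nat.card ((EtCoh.stalk (ζ ≫ g)).obj F) = Nat.card M :=
  (Nat.card_congr (((pullStalkIso ζ g).app F).addCommGroupIsoToAddEquiv).toEquiv).symm.trans
    (Nat.card_eq_of_bijective _ (ha Ω ζ s)).symm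

/-- Membership in a cardinality locus along an immersion with finite locally constant inverse image. -/
theorem mem_cardSet_iff_chart {T : Scheme.{u}} (g : T ⟶ X) [IsImmersion g] (F : EtCoh.Ab X)
    (hflc : EtCoh.IsFiniteLocallyConstant ((EtCoh.pull g).obj F)) (n : ℕ) (t : T) :
    g.base t ∈ cardSet F n ↔ ∃ (U : T.Etale) (u : U.left), U.hom.base u = t ∧
      ∃ (M : Type) (_ : AddCommGroup M) (a : M →+ EtCoh.sect ((EtCoh.pull g).obj F) U),
        IsChart _ U a ∧ Nat.card M = n := by
  constructor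
  · rintro ⟨Ω, _, _, ξ, hξ, hcard⟩
    obtain ⟨ζ, rfl, hζ⟩ := exists_point_lift g ξ t (base_default_of_range hξ).symm
    obtain ⟨U, s, M, _, _, a, ha⟩ := exists_chart ζ hflc
    refine ⟨U, s.left.base (default : Spec (CommRingCat.of Ω)), ?_, M, inferInstance, a, ha,
      (card_of_chart g F a ha ζ s).symm.trans hcard⟩
    exact (congrArg (fun k : Spec (CommRingCat.of Ω) ⟶ T =>
      k.base (default : Spec (CommRingCat.of Ω))) (Over.w s)).trans hζ
  · rintro ⟨U, u, rfl, M, _, a, ha, hM⟩
    obtain ⟨s, -⟩ := exists_fib (gpt (U.hom.base u)) u (gpt_default _).symm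
    refine ⟨_, _, inferInstance, gpt (U.hom.base u) ≫ g, ?_, (card_of_chart g F a ha _ s).trans hM⟩
    rw [range_eq_singleton]
    exact congrArg (fun y => ({g.base y} : Set X)) (gpt_default _)

theorem isClopen_preimage_cardSet {T : Scheme.{u}} (g : T ⟶ X) [IsImmersion g] (F : EtCoh.Ab X)
    (hflc : EtCoh.IsFiniteLocallyConstant ((EtCoh.pull g).obj F)) (n : ℕ) :
    IsClopen (g ⁻¹' cardSet F n) := by
  have hO : ∀ U : T.Etale, IsOpen (Set.range U.hom.base) := fun U => by
    haveI : Etale U.hom := U.prop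
    exact U.hom.isOpenMap.isOpen_range
  constructor
  · rw [← isOpen_compl_iff, isOpen_iff_forall_mem_open]
    intro t ht
    obtain ⟨U, u, hu, M, _, _, a, ha⟩ := (flc_iff_charts _).1 hflc t
    refine ⟨Set.range U.hom.base, ?_, hO U, u, hu⟩
    rintro y ⟨v, hv⟩ hy
    obtain ⟨V, w, hw, N, _, b, hb, hN⟩ := (mem_cardSet_iff_chart g F hflc n y).1 hy
    obtain ⟨e⟩ := nonempty_equiv_of_charts hb ha w v (hv.trans hw.symm)
    exact ht ((mem_cardSet_iff_chart g F hflc n t).2 ⟨U, u, hu, M, inferInstance, a, ha,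
      (Nat.card_congr e.toEquiv).symm.trans hN⟩)
  · rw [isOpen_iff_forall_mem_open]
    intro t ht
    obtain ⟨U, u, hu, M, _, a, ha, hM⟩ := (mem_cardSet_iff_chart g F hflc n t).1 ht
    refine ⟨Set.range U.hom.base, ?_, hO U, u, hu⟩
    rintro y ⟨v, hv⟩
    exact (mem_cardSet_iff_chart g F hflc n y).2 ⟨U, v, hv, M, inferInstance, a, ha, hM⟩

/-- Cardinality loci of constructible sheaves are locally constructible. -/
theorem isLocallyConstructible_cardSet (F : EtCoh.Ab X) (hF : EtPBC.IsConstructible F) (m : ℕ) :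
    IsLocallyConstructible (cardSet F m) := fun x => by
  obtain ⟨V, hV, hxV, -⟩ := GrothLib.Constructible.affine_nhd (X := X) isOpen_univ (Set.mem_univ x)
  refine ⟨(V : Set X), V.2.mem_nhds hxV, V.2, ?_⟩
  haveI : IsAffine (V : Scheme.{u}) := hV
  obtain ⟨n, T, g, himm, hcons, -, hcov, hflc⟩ := hF V hV
  have hsub : ∀ i, Set.range (g i) ⊆ Set.range V.ι := fun i => by
    rw [Scheme.Opens.range_ι]
    exact GrothLib.Constructible.range_immersion_subset (F := F) hcov i
  let g' : ∀ i, T i ⟶ (V : Scheme.{u}) := fun i => IsOpenImmersion.lift V.ι (g i) (hsub i)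
  have hg' : ∀ i, g' i ≫ V.ι = g i := fun i => IsOpenImmersion.lift_fac _ _ _
  haveI : ∀ i, IsImmersion (g' i) := fun i => by
    haveI := himm i
    haveI : IsImmersion (g' i ≫ V.ι) := by rw [hg' i]; infer_instance
    exact IsImmersion.of_comp (g' i) V.ι
  have hr : ∀ i, Set.range (g' i) = V.ι ⁻¹' Set.range (g i) := fun i => by
    rw [← hg' i]
    ext z
    exact ⟨fun ⟨t, ht⟩ => ⟨t, congrArg V.ι ht⟩,
      fun ⟨t, ht⟩ => ⟨t, V.ι.isOpenEmbedding.injective ht⟩⟩
  have hgc : ∀ i, IsConstructible (Set.range (g' i)) := fun i => by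
    rw [hr i]
    exact hcons i
  have e : ∀ i t, V.ι (g' i t) = g i t := fun i t => congrArg (fun k : T i ⟶ X => k t) (hg' i)
  have hS : V.ι ⁻¹' cardSet F m = ⋃ i, g' i '' (g i ⁻¹' cardSet F m) := by
    ext z
    rw [Set.mem_iUnion]
    constructor
    · intro hz
      obtain ⟨i, t, ht⟩ := Set.mem_iUnion.1 (hcov.ge z.2)
      refine ⟨i, t, ?_, V.ι.isOpenEmbedding.injective ((e i t).trans ht)⟩
      rw [Set.mem_preimage, ht]
      exact hz
    · rintro ⟨i, t, ht, rfl⟩
      rw [Set.mem_preimage, e i t]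
      exact ht
  change IsConstructible (V.ι ⁻¹' cardSet F m)
  rw [hS]
  refine IsConstructible.iUnion fun i =>
    GrothLib.Constructible.isConstructible_image_immersion (g' i) (hgc i) ?_
  haveI := GrothLib.Constructible.compactSpace_of_isConstructible_range (g' i) (hgc i)
  haveI : QuasiSeparatedSpace (T i) := quasiSeparatedSpace_of_quasiSeparated (g' i)
  haveI := himm i
  have hcl := isClopen_preimage_cardSet (g i) F (hflc i) m
  exact (hcl.1.isCompact.isRetrocompact hcl.2).isConstructible hcl.2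

theorem constructible_iff_cardSet [IsLocallyNoetherian X] (F : EtCoh.Ab X)
    (hfin : ∀ (Ω : Type u) [Field Ω] [IsSepClosed Ω] (ξ : Spec (CommRingCat.of Ω) ⟶ X),
      Finite ((EtCoh.stalk ξ).obj F)) :
    EtPBC.IsConstructible F ↔ ∀ n : ℕ, Topology.IsLocallyConstructible
      {x : X | ∃ (Ω : Type u) (_ : Field Ω) (_ : IsSepClosed Ω) (ξ : Spec (CommRingCat.of Ω) ⟶ X),
        Set.range ξ = {x} ∧ Nat.card ((EtCoh.stalk ξ).obj F) = n} :=
  ⟨fun h n => isLocallyConstructible_cardSet F h n, isConstructible_of_cardSet F hfin⟩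

end GrothLib.Specialize
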