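import Groth.Agent.Lib.Specialize.Bad
import Groth.Agent.Lib.ConstrCpt.Closure
import Groth.Agent.Lib.Constructible.Noetherian
import Mathlib.AlgebraicGeometry.Morphisms.UniversallyOpen

/-!
# Constructibility through specialization maps and through cardinalities of stalks
-/

set_option autoImplicit false
set_option backward.isDefEq.respectTransparency.types false
universe u

open CategoryTheory CategoryTheory.Limits AlgebraicGeometry Opposite Topology
open GrothLib.EtSite GrothLib.EtSec GrothLib.LocConst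

noncomputable section

namespace GrothLib.Specialize

variable {X : Scheme.{u}} {F : EtCoh.Ab X} {Ω : Type u} [Field Ω] [IsSepClosed Ω]

/-- Near a point, a finite stalk is a group of sections on a neighbourhood with one point over it. -/
theorem exists_local_iso_single (F : EtCoh.Ab X) (ξ : Spec (CommRingCat.of Ω) ⟶ X)
    (hfin : Finite ((EtCoh.stalk ξ).obj F)) :
    ∃ (V : X.Etale) (t : (Scheme.pointSmallEtale ξ).fiber.obj V) (M : Type)
      (_ : AddCommGroup M) (_ : Finite M) (a : M →+ EtCoh.sect F V),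
      IsAffine V.left ∧ (Function.Bijective fun m => germ ξ F t (a m)) ∧
        ∀ v : V.left, V.hom.base v = ξ.base default → v = pointOf t := by
  obtain ⟨V₀, -, t₀, M, _, hM, a, -, -, hbij⟩ := exists_local_iso F ξ hfin (topFib ξ)
  obtain ⟨V₁, g, v₁, hv₁, huniq⟩ := exists_open_fibre_singleton V₀ (ξ.base default) (pointOf t₀)
    (congrArg (fun k : Spec (CommRingCat.of Ω) ⟶ X => k.base default) (Over.w t₀))
  obtain ⟨t₁, ht₁⟩ := GrothLib.LocConst.exists_fib_lift ξ g t₀ v₁ hv₁
  obtain ⟨A, t₂, hA, ht₂⟩ := GrothLib.EtShriek.exists_affine_germ ξ t₁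
  let k := opensHom V₁ A ≫ g
  refine ⟨_, t₂, M, inferInstance, hM, (F.obj.map k.op).hom.comp a, hA, ?_, fun v hv => ?_⟩
  · have e : (fun m => germ ξ F t₂ ((F.obj.map k.op).hom.comp a m)) = fun m => germ ξ F t₀ (a m) :=
      funext fun m => by
        refine (germ_map ξ F k t₂ (a m)).trans ?_
        rw [Functor.map_comp, ConcreteCategory.comp_apply, ht₂, ht₁]
    exact e ▸ hbij
  · apply A.ι.isOpenEmbedding.injective
    have h1 : V₁.hom.base (A.ι.base v) = ξ.base default := hv
    exact (huniq _ h1).trans (huniq _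
      (congrArg (fun k : Spec (CommRingCat.of Ω) ⟶ X => k.base default) (Over.w t₂))).symm

/-- If a family of sections identifies the stalks over the closure of a point, the sheaf satisfies
the pointwise criterion of constructibility there. -/
theorem genericFLC_of_good [IsLocallyNoetherian X] (V : X.Etale) {M : Type} [AddCommGroup M] [Finite M]
    (a : M →+ EtCoh.sect F V) (x : X) (v : V.left) (hv : V.hom.base v = x) (O₀ : X.Opens) (hxO : x ∈ O₀)
    (hgood : ∀ z : V.left, V.hom.base z ∈ closure {x} → V.hom.base z ∈ O₀ → Good V a z) :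
    GrothLib.Constructible.GenericFLC F x := by
  haveI : Etale V.hom := V.prop
  haveI : EtShriek.JCont V.hom := jCont_hom V
  let O : X.Opens := ⟨Set.range V.hom.base ∩ O₀, V.hom.isOpenMap.isOpen_range.inter O₀.2⟩
  let Z : TopologicalSpace.Closeds ↥(O : Scheme.{u}) :=
    ⟨O.ι ⁻¹' closure {x}, isClosed_closure.preimage O.ι.continuous⟩
  let I := Scheme.IdealSheafData.vanishingIdeal Z
  let g : I.subscheme ⟶ X := I.subschemeι ≫ O.ι
  have hr : Set.range g = (O : Set X) ∩ closure {x} := by
    rw [show Set.range g = O.ι '' Set.range I.subschemeι from Set.range_comp O.ι I.subschemeι,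
      Scheme.IdealSheafData.range_subschemeι, Scheme.IdealSheafData.coe_support_vanishingIdeal]
    change O.ι '' (O.ι ⁻¹' closure {x}) = _
    rw [Set.image_preimage_eq_inter_range, Scheme.Opens.range_ι, Set.inter_comm]
  refine ⟨O, I.subscheme, g, inferInstance, ⟨⟨v, hv⟩, hxO⟩, hr, ?_⟩
  haveI : Etale (pullback.fst g V.hom) := inferInstance
  let φ := sectHom F V a
  let p : pullback g V.hom ⟶ V.left := pullback.snd g V.hom
  haveI : IsIso ((EtCoh.pull p).map φ) := isIso_of_stalks _ fun Ω _ _ η => by
    have hη : Function.Bijective ((EtCoh.stalk (η ≫ p)).map φ) := by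
      refine (bijective_sectHom_iff F V a (η ≫ p)).2 (hgood _ ?_ ?_ _ _ _ rfl)
      all_goals
        have h : g.base ((η ≫ pullback.fst g V.hom).base default) ∈ (O : Set X) ∩ closure {x} :=
          hr ▸ ⟨_, rfl⟩
        have e : g.base ((η ≫ pullback.fst g V.hom).base default) = V.hom.base ((η ≫ p).base default) := by
          change ((η ≫ pullback.fst g V.hom) ≫ g).base default = ((η ≫ p) ≫ V.hom).base default
          rw [Category.assoc, Category.assoc, pullback.condition]
        rw [e] at h
      · exact h.2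
      · exact h.1.2
    haveI : IsIso ((EtCoh.stalk (η ≫ p)).map φ) := (ConcreteCategory.isIso_iff_bijective _).2 hη
    haveI : IsIso ((EtCoh.pull p ⋙ EtCoh.stalk η).map φ) :=
      (NatIso.isIso_map_iff (pullStalkIso η p) φ).2 inferInstance
    exact (ConcreteCategory.isIso_iff_bijective _).1
      (inferInstance : IsIso ((EtCoh.pull p ⋙ EtCoh.stalk η).map φ))
  refine ⟨PUnit.{u + 1}, fun _ => Scheme.Etale.mk (pullback.fst g V.hom), fun s => ⟨PUnit.unit, ?_⟩,
    fun _ => ⟨M, inferInstance, inferInstance, ?_⟩⟩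
  · obtain ⟨z, hz⟩ : g.base s ∈ Set.range V.hom.base :=
      ((hr.le ⟨s, rfl⟩ : g.base s ∈ (O : Set X) ∩ closure {x})).1.1
    obtain ⟨w, hw, -⟩ := Scheme.Pullback.exists_preimage_pullback s z hz.symm
    exact ⟨w, hw⟩
  · rw [restr_iso_const_iff]
    exact ⟨((EtCore.pullComp (pullback.fst g V.hom) g).app F).symm ≪≫
      (EtCore.pullCongr (pullback.condition (f := g) (g := V.hom))).app F ≪≫
      (EtCore.pullComp p V.hom).app F ≪≫
      (EtCoh.pull p).mapIso ((GrothLib.ExtZero.restrIsoPull V.hom).app F).symm ≪≫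
      (asIso ((EtCoh.pull p).map φ)).symm ≪≫ (EtCore.pullConstIso p).app _⟩

/-- Injective specialization maps and finite stalks imply constructibility. -/
theorem isConstructible_of_spec_mono [IsLocallyNoetherian X] (F : EtCoh.Ab X)
    (hfin : ∀ (Ω : Type u) [Field Ω] [IsSepClosed Ω] (ξ : Spec (CommRingCat.of Ω) ⟶ X),
      Finite ((EtCoh.stalk ξ).obj F))
    (hmono : ∀ (Ω Ω' : Type u) [Field Ω] [IsSepClosed Ω] [Field Ω'] [IsSepClosed Ω']
        (ξ : Spec (CommRingCat.of Ω) ⟶ X) (ξ' : Spec (CommRingCat.of Ω') ⟶ X)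
        (φ : Scheme.pointSmallEtale ξ' ⟶ Scheme.pointSmallEtale ξ),
        Mono ((GrothendieckTopology.Point.Hom.sheafFiber (A := AddCommGrpCat.{u + 1}) φ).app F)) :
    EtPBC.IsConstructible F :=
  GrothLib.Constructible.isConstructible_of_generic F fun x => by
    obtain ⟨V, t, M, _, _, a, -, hbij, huniq⟩ := exists_local_iso_single F (gpt x) (hfin _ (gpt x))
    haveI : Etale V.hom := V.prop
    have hvx : V.hom.base (pointOf t) = x :=
      (congrArg (fun k : Spec (CommRingCat.of _) ⟶ X => k.base default) (Over.w t)).trans (gpt_default x)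
    refine genericFLC_of_good V a x _ hvx ⊤ trivial fun z hz _ => ?_
    obtain ⟨v, hvz, hv⟩ := (Flat.generalizingMap (f := V.hom)) (a := z) (specializes_iff_mem_closure.2 hz)
    obtain rfl := huniq v (hv.trans (gpt_default x).symm)
    obtain ⟨tz, htz⟩ := exists_fib (gpt (V.hom.base z)) (U := V) z (gpt_default _).symm
    obtain ⟨Ω', _, _, ξ', φ, hφ⟩ := exists_spec_over tz (pointOf t) (by rw [show pointOf tz = z from htz]; exact hvz)
    have hinj := (AddCommGrpCat.mono_iff_injective _).1 (hmono _ Ω' _ ξ' φ)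
    have hb := good_of_bijective a t hbij Ω' ξ' _ hφ
    refine htz ▸ good_of_bijective a tz ⟨fun m m' h => hb.1 ?_, fun p => ?_⟩
    · exact (sheafFiber_germ φ F tz (a m)).symm.trans ((congrArg _ h).trans (sheafFiber_germ φ F tz (a m')))
    · obtain ⟨m, hm⟩ := hb.2 ((GrothendieckTopology.Point.Hom.sheafFiber (A := AddCommGrpCat.{u + 1}) φ).app F p)
      exact ⟨m, hinj ((sheafFiber_germ φ F tz (a m)).trans hm)⟩

/-- The points with a geometric stalk of cardinality `n`. -/
abbrev cardSet (F : EtCoh.Ab X) (n : ℕ) : Set X :=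
  {x : X | ∃ (Ω : Type u) (_ : Field Ω) (_ : IsSepClosed Ω) (ξ : Spec (CommRingCat.of Ω) ⟶ X),
    Set.range ξ = {x} ∧ Nat.card ((EtCoh.stalk ξ).obj F) = n}

theorem base_default_of_range {ξ : Spec (CommRingCat.of Ω) ⟶ X} {x : X} (h : Set.range ξ = {x}) :
    ξ.base default = x := (h.le ⟨default, rfl⟩ : _)

/-- Locally constructible cardinality loci and finite stalks imply constructibility. -/
theorem isConstructible_of_cardSet [IsLocallyNoetherian X] (F : EtCoh.Ab X)
    (hfin : ∀ (Ω : Type u) [Field Ω] [IsSepClosed Ω] (ξ : Spec (CommRingCat.of Ω) ⟶ X),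
      Finite ((EtCoh.stalk ξ).obj F))
    (h : ∀ n, IsLocallyConstructible (cardSet F n)) : EtPBC.IsConstructible F :=
  GrothLib.Constructible.isConstructible_of_generic F fun x => by
    obtain ⟨V, t, M, _, _, a, -, hbij, huniq⟩ := exists_local_iso_single F (gpt x) (hfin _ (gpt x))
    haveI : Etale V.hom := V.prop
    have hvx : V.hom.base (pointOf t) = x :=
      (congrArg (fun k : Spec (CommRingCat.of _) ⟶ X => k.base default) (Over.w t)).trans (gpt_default x)
    let n := Nat.card M
    have hn : x ∈ cardSet F n :=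
      ⟨_, inferInstance, inferInstance, gpt x, range_gpt x, (Nat.card_eq_of_bijective _ hbij).symm⟩
    obtain ⟨W, hW, hxW, -⟩ := GrothLib.Constructible.affine_nhd (X := X) isOpen_univ (Set.mem_univ x)
    haveI : IsAffine (W : Scheme.{u}) := hW
    haveI : IsNoetherian (W : Scheme.{u}) := {}
    haveI : TopologicalSpace.NoetherianSpace ↥(W : Scheme.{u}) := inferInstance
    let S : Set ↥(W : Scheme.{u}) := W.ι ⁻¹' (closure {x} \ cardSet F n)
    have hS : Topology.IsConstructible S := by
      refine IsConstructible.sdiff (IsConstructible.of_compl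
        (GrothLib.Constructible.isConstructible_of_isOpen_of_noetherian
          (isClosed_closure.preimage W.ι.continuous).isOpen_compl)) ?_
      exact ((h n).preimage_of_isOpenEmbedding W.ι.isOpenEmbedding).isConstructible
    have hxS : (⟨x, hxW⟩ : ↥(W : Scheme.{u})) ∉ closure S := by
      intro hm
      obtain ⟨y, hy, hyx⟩ := GrothLib.ConstrCpt.exists_specializes hS hm
      have h1 : W.ι.base y ⤳ x := hyx.map W.ι.continuous
      exact hy.2 ((h1.antisymm (specializes_iff_mem_closure.2 hy.1)).eq ▸ hn)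
    let O₀ : X.Opens := W.ι ''ᵁ ⟨(closure S)ᶜ, isClosed_closure.isOpen_compl⟩
    refine genericFLC_of_good V a x _ hvx O₀ ⟨_, hxS, rfl⟩ fun z hz hzO => ?_
    obtain ⟨w, hw, hwz⟩ := hzO
    have hzn : V.hom.base z ∈ cardSet F n := by
      by_contra hc
      exact hw (subset_closure ⟨show W.ι.base w ∈ closure {x} from hwz ▸ hz,
        fun hh => hc (hwz ▸ hh)⟩)
    obtain ⟨Ω', _, _, ξ', hξ', hcard⟩ := hzn
    obtain ⟨tz, htz⟩ := exists_fib ξ' (U := V) z (base_default_of_range hξ').symm
    obtain ⟨v, hvz, hv⟩ := (Flat.generalizingMap (f := V.hom)) (a := z) (specializes_iff_mem_closure.2 hz)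
    obtain rfl := huniq v (hv.trans (gpt_default x).symm)
    haveI := hfin _ ξ'
    refine htz ▸ good_of_bijective a tz ((Nat.bijective_iff_injective_and_card _).2 ⟨?_, hcard.symm⟩)
    intro m m' hmm
    refine hbij.1 ?_
    have h0 : germ ξ' F tz (a (m - m')) = 0 := by
      rw [map_sub, map_sub, sub_eq_zero]
      exact hmm
    have h1 := germ_eq_zero_of_specializes tz t (by rw [show pointOf tz = z from htz]; exact hvz) _ h0
    rw [map_sub, map_sub, sub_eq_zero] at h1
    exact h1

end GrothLib.Specialize
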